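import Cfsg.Agent.Lib.Helper99.X3.Defs
import Cfsg.Prelude.Def_LieClassical
import Cfsg.Agent.Lib.Helper9.AschU.Base

set_option autoImplicit false
open scoped MatrixGroups

namespace Cfsg.Agent.Lib.Helper99.X3

variable {F : Type*} [Field F]

local notation "M3" => Matrix (Fin 3) (Fin 3) F

open Cfsg.Agent.Lib.Helper9.AschU in
theorem DIU [Fintype F] {q : ℕ} (hF : Fintype.card F = q ^ 2) (l : Fin 3 → F) (hl : ∀ i, l i ^ (q + 1) = 1) :
    ∃ D ∈ Cfsg.GU 3 F q, (D : M3) = Matrix.diagonal l := by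
  have hq0 : q ≠ 0 := by
    rintro rfl
    have : 0 < Fintype.card F := Fintype.card_pos
    simp at hF
  have hadj : adj q (Matrix.diagonal l) = Matrix.diagonal (fun i => l i ^ q) := by
    ext i j
    by_cases hij : i = j
    · subst hij; simp [adj]
    · simp [adj, Matrix.diagonal_apply, hij, Ne.symm hij, hq0]
  have h : adj q (Matrix.diagonal l) * Matrix.diagonal l = 1 := by
    rw [hadj, Matrix.diagonal_mul_diagonal, ← Matrix.diagonal_one]
    congr 1
    funext i
    rw [← pow_succ]; exact hl i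
  refine ⟨⟨Matrix.diagonal l, adj q (Matrix.diagonal l), mul_eq_one_comm.1 h, h⟩, ?_, rfl⟩
  rw [mem_GU_iff_adj hF]
  exact h

end Cfsg.Agent.Lib.Helper99.X3
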