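import Cfsg.Agent.Lib.Helper99.X3.Defs
import Cfsg.Prelude.Def_LieClassical
import Cfsg.Agent.Lib.Helper9.AschU.Base

set_option autoImplicit false
open scoped MatrixGroups

namespace Cfsg.Agent.Lib.Helper99.X3

variable {F : Type*} [Field F]

local notation "M3" => Matrix (Fin 3) (Fin 3) F

open Cfsg.Agent.Lib.Helper9.AschU in
theorem I2U_aux [Fintype F] {q : ℕ} (hF : Fintype.card F = q ^ 2) (S : M3) (hS : adj q S * S = 1)
    (c : F) (hc : c * c = 1) (l : Fin 3 → F) (h : S * T0 = c • (Matrix.diagonal l * S)) :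
    ∃ (c : F), ∃ T ∈ Cfsg.GU 3 F q, c ≠ 0 ∧
      Matrix.diagonal l = c • ((T : M3) * T0 * ((T⁻¹ : GL (Fin 3) F) : M3)) := by
  have hS' : S * adj q S = 1 := mul_eq_one_comm.1 hS
  refine ⟨c, ⟨S, adj q S, hS', hS⟩, ?_, ?_, ?_⟩
  · rw [mem_GU_iff_adj hF]; exact hS
  · rintro rfl
    simp at hc
  · change Matrix.diagonal l = c • (S * T0 * adj q S)
    rw [h, Matrix.smul_mul, Matrix.mul_assoc, hS', Matrix.mul_one, smul_smul, hc, one_smul]

open Cfsg.Agent.Lib.Helper9.AschU Cfsg.Agent.Lib.Helper13 in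
theorem I2U [Fintype F] {q : ℕ} (hF : Fintype.card F = q ^ 2) (h2 : (2 : F) ≠ 0) (l : Fin 3 → F)
    (hl : ∀ i, l i = 1 ∨ l i = -1) (hns : ¬ (l 0 = l 1 ∧ l 1 = l 2)) :
    ∃ (c : F), ∃ T ∈ Cfsg.GU 3 F q, c ≠ 0 ∧
      Matrix.diagonal l = c • ((T : M3) * T0 * ((T⁻¹ : GL (Fin 3) F) : M3)) := by
  have hq0 : q ≠ 0 := by have := two_le_of_card_sq hF; omega
  have h2q : (2 : F) ^ q = 2 := by
    have := add_pow_q hF (1 : F) 1
    rw [one_pow] at this
    norm_num at this
    exact this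
  obtain ⟨s, hs⟩ := norm_surjective hF (2 : F)⁻¹ (by rw [inv_pow, h2q])
  have hs2 : s ^ q * s + s ^ q * s = 1 := by
    rw [← pow_succ, hs]; field_simp; norm_num
  have hneg : (-s) ^ q = -(s ^ q) := by
    have := add_pow_q hF (-s) s
    rw [neg_add_cancel, zero_pow hq0] at this
    linear_combination -this
  have d1 : adj q (!![1, 0, 0; 0, s, s; 0, s, -s] : M3) * !![1, 0, 0; 0, s, s; 0, s, -s] = 1 := by
    ext i j
    fin_cases i <;> fin_cases j <;>
      simp [adj, Matrix.mul_apply, Fin.sum_univ_three, hneg, hq0] <;>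
      first | linear_combination hs2 | ring
  have d2 : adj q (!![1, 0, 0; 0, s, -s; 0, s, s] : M3) * !![1, 0, 0; 0, s, -s; 0, s, s] = 1 := by
    ext i j
    fin_cases i <;> fin_cases j <;>
      simp [adj, Matrix.mul_apply, Fin.sum_univ_three, hneg, hq0] <;>
      first | linear_combination hs2 | ring
  have d3 : adj q (!![0, s, -s; 1, 0, 0; 0, s, s] : M3) * !![0, s, -s; 1, 0, 0; 0, s, s] = 1 := by
    ext i j
    fin_cases i <;> fin_cases j <;>
      simp [adj, Matrix.mul_apply, Fin.sum_univ_three, hneg, hq0] <;>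
      first | linear_combination hs2 | ring
  rcases hl 0 with h0 | h0 <;> rcases hl 1 with h1 | h1 <;> rcases hl 2 with h2' | h2'
  · exact absurd ⟨h0.trans h1.symm, h1.trans h2'.symm⟩ hns
  · apply I2U_aux hF _ d1 1 (by norm_num) l
    ext i j
    fin_cases i <;> fin_cases j <;>
      simp [T0, Matrix.mul_apply, Fin.sum_univ_three, Matrix.diagonal_apply, h0, h1, h2']
  · apply I2U_aux hF _ d2 1 (by norm_num) l
    ext i j
    fin_cases i <;> fin_cases j <;>
      simp [T0, Matrix.mul_apply, Fin.sum_univ_three, Matrix.diagonal_apply, h0, h1, h2']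
  · apply I2U_aux hF _ d3 (-1) (by norm_num) l
    ext i j
    fin_cases i <;> fin_cases j <;>
      simp [T0, Matrix.mul_apply, Fin.sum_univ_three, Matrix.diagonal_apply, h0, h1, h2']
  · apply I2U_aux hF _ d3 1 (by norm_num) l
    ext i j
    fin_cases i <;> fin_cases j <;>
      simp [T0, Matrix.mul_apply, Fin.sum_univ_three, Matrix.diagonal_apply, h0, h1, h2']
  · apply I2U_aux hF _ d2 (-1) (by norm_num) l
    ext i j
    fin_cases i <;> fin_cases j <;>
      simp [T0, Matrix.mul_apply, Fin.sum_univ_three, Matrix.diagonal_apply, h0, h1, h2']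
  · apply I2U_aux hF _ d1 (-1) (by norm_num) l
    ext i j
    fin_cases i <;> fin_cases j <;>
      simp [T0, Matrix.mul_apply, Fin.sum_univ_three, Matrix.diagonal_apply, h0, h1, h2']
  · exact absurd ⟨h0.trans h1.symm, h1.trans h2'.symm⟩ hns

end Cfsg.Agent.Lib.Helper99.X3
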